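import Groth.Agent.Lib.AbRigid.FlatFibre
import Groth.Agent.Lib.AbRigid.Maximal
import Groth.Agent.Lib.AlgGrpBasic19.Basic
import Groth.Agent.Lib.BorelFix21.Stabilizer
import Groth.Agent.Lib.BorelFix21.BaseChange
import Groth.Agent.Lib.GrpNeutral20.OpenOver
import Groth.Agent.Lib.PtSet.Components
import Groth.Prelude.Def_Red
import Mathlib.AlgebraicGeometry.Morphisms.SmoothFiber
import Mathlib.AlgebraicGeometry.Morphisms.LocalFlatDescent
import Mathlib.AlgebraicGeometry.Morphisms.UniversallyOpen

/-!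
# Preimages of smooth or connected subgroups under faithfully flat homomorphisms
-/

set_option autoImplicit false
set_option linter.style.haveILetI false
set_option backward.isDefEq.respectTransparency false
set_option backward.isDefEq.respectTransparency.types false

universe u

open CategoryTheory CategoryTheory.Limits MonoidalCategory CartesianMonoidalCategory MonObj AlgebraicGeometry
open TopologicalSpace

noncomputable section

namespace Groth.Agent.PreimSub20

open scoped CategoryTheory.Obj

/-- A pullback of a monomorphic homomorphism is a subgroup. -/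
theorem exists_pullback_grp {C : Type*} [Category C] [CartesianMonoidalCategory C] {P H G G' : C} [GrpObj H]
    [GrpObj G] [GrpObj G'] {p1 : P ⟶ H} {p2 : P ⟶ G} (h : H ⟶ G') [IsMonHom h] [Mono h] (u : G ⟶ G') [IsMonHom u]
    (sq : IsPullback p1 p2 h u) : ∃ _ : GrpObj P, IsMonHom p1 ∧ IsMonHom p2 := by
  haveI : Mono p2 := ⟨fun a b e => sq.hom_ext ((cancel_mono h).1 (by
    rw [Category.assoc, Category.assoc, sq.w, reassoc_of% e])) e⟩
  let e : 𝟙_ C ⟶ P := sq.lift η[H] η[G] (by rw [IsMonHom.one_hom, IsMonHom.one_hom])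
  let m : P ⊗ P ⟶ P := sq.lift ((fst P P ≫ p1) * (snd P P ≫ p1)) ((fst P P ≫ p2) * (snd P P ≫ p2)) (by
    rw [MonObj.mul_comp, MonObj.mul_comp, Category.assoc, Category.assoc, Category.assoc, Category.assoc, sq.w])
  let v : P ⟶ P := sq.lift p1⁻¹ p2⁻¹ (by rw [GrpObj.inv_comp, GrpObj.inv_comp, sq.w])
  have he1 : e ≫ p1 = η[H] := sq.lift_fst _ _ _
  have he2 : e ≫ p2 = η[G] := sq.lift_snd _ _ _
  have hm1 : m ≫ p1 = (p1 ⊗ₘ p1) ≫ μ[H] := by
    rw [show m ≫ p1 = _ from sq.lift_fst _ _ _, Hom.mul_def, lift_fst_comp_snd_comp]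
  have hm2 : m ≫ p2 = (p2 ⊗ₘ p2) ≫ μ[G] := by
    rw [show m ≫ p2 = _ from sq.lift_snd _ _ _, Hom.mul_def, lift_fst_comp_snd_comp]
  have hv2 : v ≫ p2 = p2 ≫ ι[G] := by rw [show v ≫ p2 = _ from sq.lift_snd _ _ _, Hom.inv_def]
  letI : GrpObj P := AbRigid.grpObjOfMono p2 e he2 m hm2 v hv2
  exact ⟨inferInstance, ⟨he1, hm1⟩, ⟨he2, hm2⟩⟩

/-- An extension of a smooth group with kernel inside a smooth subgroup is smooth. -/
theorem smooth_of_kernel {k : Type u} [Field k] [IsAlgClosed k] (K H C : Over (Spec (CommRingCat.of k)))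
    [GrpObj K] [GrpObj H] [LocallyOfFiniteType K.hom] [Smooth H.hom] [Smooth C.hom] (v : K ⟶ H) [IsMonHom v]
    [Flat v.left] [Surjective v.left] [QuasiCompact v.left] (c : C ⟶ K)
    (hker : ∀ (T : Over (Spec (CommRingCat.of k))) (n : T ⟶ K), n ≫ v = 1 → ∃ m, m ≫ c = n) : Smooth K.hom := by
  obtain ⟨R, _, r, hr, hrc, hrs, hRr, hRs⟩ := BorelFix21.exists_reduced_subgroup K
  haveI := hr; haveI := hrc; haveI := hrs; haveI := hRs
  haveI : Mono r := Over.mono_of_mono_left r
  haveI : IsReduced H.left := OrbitTop19.isReduced_of_smooth H.hom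
  haveI : IsReduced C.left := OrbitTop19.isReduced_of_smooth C.hom
  obtain ⟨c', hc'⟩ := PerfProd19.exists_lift_of_surjective r c
  haveI : Surjective (r ≫ v).left := by rw [Over.comp_left]; infer_instance
  haveI : Flat (r ≫ v).left := AbRigid.flat_of_surjective_of_isReduced R H (r ≫ v)
  haveI : QuasiCompact (r ≫ v).left := by rw [Over.comp_left]; infer_instance
  let P := pullback v (r ≫ v)
  let w₁ : P ⟶ K := pullback.fst v (r ≫ v)
  let w₂ : P ⟶ R := pullback.snd v (r ≫ v)
  have hsq : IsPullback w₂.left w₁.left (r ≫ v).left v.left :=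
    ((IsPullback.of_hasPullback v (r ≫ v)).flip.map (Over.forget _))
  haveI : Flat w₁.left := MorphismProperty.of_isPullback hsq ‹Flat (r ≫ v).left›
  haveI : Surjective w₁.left := MorphismProperty.of_isPullback hsq ‹Surjective (r ≫ v).left›
  haveI : QuasiCompact w₁.left := MorphismProperty.of_isPullback hsq ‹QuasiCompact (r ≫ v).left›
  obtain ⟨m, hm⟩ := hker P ((w₂ ≫ r)⁻¹ * w₁) (by
    rw [MonObj.mul_comp, GrpObj.inv_comp, Category.assoc, ← show w₁ ≫ v = w₂ ≫ r ≫ v from pullback.condition,
      inv_mul_cancel])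
  let g : P ⟶ R := w₂ * (m ≫ c')
  have hg : g ≫ r = w₁ := by
    rw [MonObj.mul_comp, Category.assoc, hc', hm, mul_inv_cancel_left]
  obtain ⟨σ, hσ⟩ := AlgGrpBasic19.exists_desc w₁ g fun T a b e => (cancel_mono r).1 (by
    rw [Category.assoc, Category.assoc, hg, e])
  haveI : Epi w₁ := ⟨fun a b e => Over.OverMorphism.ext ((cancel_epi w₁.left).1 (congrArg CommaMorphism.left e))⟩
  have h1 : σ ≫ r = 𝟙 K := by rw [← cancel_epi w₁, reassoc_of% hσ, hg, Category.comp_id]
  haveI : IsIso r := ⟨σ, (cancel_mono r).1 (by rw [Category.assoc, h1, Category.comp_id, Category.id_comp]), h1⟩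
  haveI : IsIso (inv r).left := inferInstanceAs (IsIso ((Over.forget _).map (inv r)))
  rw [← Over.w (inv r)]
  infer_instance

variable {S : Scheme.{u}}

/-- The square of a base changed morphism. -/
theorem isPullback_bc_map {S' : Scheme.{u}} (φ : S' ⟶ S) {X Y : Over S} (f : X ⟶ Y) :
    IsPullback (pullback.fst X.hom φ) ((Over.pullback φ).map f).left f.left (pullback.fst Y.hom φ) := by
  refine IsPullback.of_bot (v₂₁ := ((Over.pullback φ).obj Y).hom) (v₂₂ := Y.hom) (h₃₁ := φ) ?_ ?_
    (IsPullback.of_hasPullback Y.hom φ)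
  · rw [Over.w f, Over.w ((Over.pullback φ).map f)]
    exact IsPullback.of_hasPullback X.hom φ
  · exact (Limits.pullback.lift_fst _ _ _).symm

/-- Smoothness of a preimage subgroup. -/
theorem smooth_of_kernel_rel (K H C : Over S) [GrpObj K] [GrpObj H] [LocallyOfFinitePresentation K.hom]
    [Smooth H.hom] [Smooth C.hom] (v : K ⟶ H) [IsMonHom v] [Flat v.left] [Surjective v.left] [QuasiCompact v.left]
    (c : C ⟶ K) (sq : ∀ (T : Over S) (n : T ⟶ K), n ≫ v = 1 → ∃ m, m ≫ c = n) : Smooth K.hom := by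
  haveI : Flat K.hom := by rw [← Over.w v]; infer_instance
  haveI : ∀ s : S, Smooth (K.hom.fiberToSpecResidueField s) := fun s => by
    let φ := Red.geomPt s
    let F := Over.pullback φ
    haveI : LocallyOfFiniteType (F.obj K).hom := inferInstanceAs (LocallyOfFiniteType (pullback.snd K.hom φ))
    haveI : Smooth (F.obj H).hom := inferInstanceAs (Smooth (pullback.snd H.hom φ))
    haveI : Smooth (F.obj C).hom := inferInstanceAs (Smooth (pullback.snd C.hom φ))
    haveI : Flat (F.map v).left := MorphismProperty.of_isPullback (isPullback_bc_map φ v) ‹Flat v.left›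
    haveI : Surjective (F.map v).left :=
      MorphismProperty.of_isPullback (isPullback_bc_map φ v) ‹Surjective v.left›
    haveI : QuasiCompact (F.map v).left :=
      MorphismProperty.of_isPullback (isPullback_bc_map φ v) ‹QuasiCompact v.left›
    have hK : Smooth (F.obj K).hom := by
      refine smooth_of_kernel (k := AlgebraicClosure (S.residueField s)) (F.obj K) (F.obj H) (F.obj C) (F.map v)
        (F.map c) fun T n hn => ?_
      let A := Over.mapPullbackAdj φ
      let n' : (Over.map φ).obj T ⟶ K := (A.homEquiv _ _).symm n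
      have hn' : n' ≫ v = 1 := by
        apply (A.homEquiv _ _).injective
        rw [A.homEquiv_naturality_right, show A.homEquiv _ _ n' = n from (A.homEquiv _ _).apply_symm_apply n, hn,
          Hom.one_def, Hom.one_def, A.homEquiv_naturality_right]
        rw [Functor.obj.η_def, ← Category.assoc]
        congr 1
        exact (cancel_mono (Functor.OplaxMonoidal.η F)).1 (toUnit_unique _ _)
      obtain ⟨m, hm⟩ := sq _ n' hn'
      exact ⟨A.homEquiv _ _ m, by rw [← A.homEquiv_naturality_right, hm]; exact (A.homEquiv _ _).apply_symm_apply n⟩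
    let ψ : Spec (CommRingCat.of (AlgebraicClosure (S.residueField s))) ⟶ Spec (S.residueField s) :=
      Spec.map (CommRingCat.ofHom (algebraMap (S.residueField s) (AlgebraicClosure (S.residueField s))))
    haveI : Surjective ψ := ⟨fun z => ⟨IsLocalRing.closedPoint _, Subsingleton.elim (α := PrimeSpectrum (S.residueField s)) _ _⟩⟩
    haveI : Flat ψ := by
      rw [HasRingHomProperty.Spec_iff (P := @Flat)]
      exact RingHom.flat_algebraMap_iff.2 inferInstance
    refine MorphismProperty.of_pullback_snd_of_descendsAlong (P := @Smooth)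
      (Q := @Surjective ⊓ @Flat ⊓ @QuasiCompact) (g := ψ) ⟨⟨inferInstance, inferInstance⟩, inferInstance⟩ ?_
    show Smooth (pullback.snd (pullback.snd K.hom (S.fromSpecResidueField s)) ψ)
    rw [← pullbackLeftPullbackSndIso_hom_snd K.hom (S.fromSpecResidueField s) ψ]
    haveI : Smooth (pullback.snd K.hom (ψ ≫ S.fromSpecResidueField s)) := hK
    infer_instance
  exact Smooth.of_smooth_fiberToSpecResidueField K.hom inferInstance

/-- Connectedness of the fibres of a preimage subgroup. -/
theorem isConnected_fibre_of_kernel (K H C : Over S) [GrpObj K] [GrpObj H] [LocallyOfFiniteType K.hom]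
    [QuasiCompact K.hom] (v : K ⟶ H) [IsMonHom v] [UniversallyOpen v.left] [Surjective v.left] (c : C ⟶ K)
    (hc : ∃ e : 𝟙_ (Over S) ⟶ C, e ≫ c = η[K])
    (sq : ∀ (T : Over S) (n : T ⟶ K), n ≫ v = 1 → ∃ m, m ≫ c = n) (s : S)
    (hC : _root_.IsConnected (C.hom.base ⁻¹' {s})) (hH : _root_.IsConnected (H.hom.base ⁻¹' {s})) :
    _root_.IsConnected (K.hom.base ⁻¹' {s}) := by
  let F : Set K.left := K.hom.base ⁻¹' {s}
  let N := SGA3x.neutralSet K
  have hap : ∀ {A B : Over S} (f : A ⟶ B) (z : A.left), B.hom (f.left z) = A.hom z := fun f z => by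
    rw [← Scheme.Hom.comp_apply, Over.w f]
  obtain ⟨e, he⟩ := hc
  have hCN : ∀ z : C.left, C.hom z = s → c.left z ∈ N := by
    intro z hz
    rw [GrpNeutral20.mem_iff, hap c, hz]
    refine (hC.isPreconnected.image _ c.left.continuous.continuousOn).subset_connectedComponentIn
      ⟨e.left s, ?_, ?_⟩ ?_ ⟨z, hz, rfl⟩
    · show C.hom (e.left s) = s
      rw [hap e]; rfl
    · rw [← GrpNeutral20.hap e c, he]
    · rintro _ ⟨w, hw, rfl⟩
      show K.hom (c.left w) = s
      rw [hap c]; exact hw
  have hsat : ∀ x y : K.left, x ∈ N → x ∈ F → v.left x = v.left y → y ∈ N := by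
    intro x y hx hxs hxy
    obtain ⟨z, hz1, hz2⟩ := Scheme.Pullback.exists_preimage_pullback (f := v.left) (g := v.left) x y hxy
    let p₁ := pullback.fst v.left v.left
    let p₂ := pullback.snd v.left v.left
    let T : Over S := Over.mk ((pullback v.left v.left).fromSpecResidueField z ≫ p₁ ≫ K.hom)
    let a : T ⟶ K := Over.homMk ((pullback v.left v.left).fromSpecResidueField z ≫ p₁) (Category.assoc _ _ _)
    let b : T ⟶ K := Over.homMk ((pullback v.left v.left).fromSpecResidueField z ≫ p₂) (by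
      show ((pullback v.left v.left).fromSpecResidueField z ≫ p₂) ≫ K.hom =
        (pullback v.left v.left).fromSpecResidueField z ≫ p₁ ≫ K.hom
      rw [Category.assoc, ← Over.w v]
      simp only [p₁, p₂, pullback.condition_assoc])
    have hab : a ≫ v = b ≫ v := by
      apply Over.OverMorphism.ext
      show ((pullback v.left v.left).fromSpecResidueField z ≫ p₁) ≫ v.left =
        ((pullback v.left v.left).fromSpecResidueField z ≫ p₂) ≫ v.left
      simp only [p₁, p₂, Category.assoc, pullback.condition]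
    let t₀ : T.left := IsLocalRing.closedPoint ((pullback v.left v.left).residueField z)
    have ha : a.left t₀ = x := by
      show ((pullback v.left v.left).fromSpecResidueField z ≫ p₁) t₀ = x
      rw [Scheme.Hom.comp_apply, Scheme.fromSpecResidueField_apply, hz1]
    have hb : b.left t₀ = y := by
      show ((pullback v.left v.left).fromSpecResidueField z ≫ p₂) t₀ = y
      rw [Scheme.Hom.comp_apply, Scheme.fromSpecResidueField_apply, hz2]
    obtain ⟨m, hm⟩ := sq T (a⁻¹ * b) (by rw [MonObj.mul_comp, GrpObj.inv_comp, hab, inv_mul_cancel])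
    have hn : (a⁻¹ * b).left t₀ ∈ N := by
      rw [← hm, GrpNeutral20.hap]
      refine hCN _ ?_
      rw [hap m, ← hap a, ha]
      exact hxs
    have := GrpNeutral20.mul_mem K ((lift a (a⁻¹ * b)).left t₀)
      (by rw [← GrpNeutral20.hap, lift_fst, ha]; exact hx) (by rw [← GrpNeutral20.hap, lift_snd]; exact hn)
    rwa [← GrpNeutral20.hap, ← Hom.mul_def, mul_inv_cancel_left, hb] at this
  -- the component of the unit is open and closed in the fibre
  have hNF : N ∩ F = connectedComponentIn F (η[K].left s) := by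
    ext x
    constructor
    · rintro ⟨h1, h2⟩
      have h2' : K.hom x = s := h2
      have := (GrpNeutral20.mem_iff K x).1 h1
      rwa [h2'] at this
    · intro h
      have h2 : K.hom x = s := connectedComponentIn_subset F _ h
      exact ⟨(GrpNeutral20.mem_iff K x).2 (by rw [h2]; exact h), h2⟩
  have hηF : η[K].left s ∈ F := GrpNeutral20.unit_over K s
  haveI : LocallyConnectedSpace F := by
    haveI : LocallyOfFiniteType (K.hom.fiberToSpecResidueField s) :=
      inferInstanceAs (LocallyOfFiniteType (pullback.snd K.hom (S.fromSpecResidueField s)))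
    haveI : QuasiCompact (K.hom.fiberToSpecResidueField s) :=
      inferInstanceAs (QuasiCompact (pullback.snd K.hom (S.fromSpecResidueField s)))
    haveI : CompactSpace (K.hom.fiber s) := (quasiCompact_iff_compactSpace (K.hom.fiberToSpecResidueField s)).1 inferInstance
    haveI : IsLocallyNoetherian (K.hom.fiber s) :=
      LocallyOfFiniteType.isLocallyNoetherian (K.hom.fiberToSpecResidueField s)
    haveI : IsNoetherian (K.hom.fiber s) := {}
    haveI : NoetherianSpace F := (K.hom.fiberHomeo s).symm.isInducing.noetherianSpace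
    exact PtSet.locallyConnectedSpace_of_noetherian_nhds fun x => ⟨Set.univ, Filter.univ_mem, inferInstance⟩
  let D : Set F := connectedComponent (⟨η[K].left s, hηF⟩ : F)
  have hD : ∀ x : F, x ∈ D ↔ x.1 ∈ N := fun x => by
    constructor
    · intro hx
      exact (hNF.ge (by rw [connectedComponentIn_eq_image hηF]; exact ⟨x, hx, rfl⟩)).1
    · intro hx
      have := hNF.le ⟨hx, x.2⟩
      rw [connectedComponentIn_eq_image hηF] at this
      obtain ⟨w, hw, hwx⟩ := this
      exact Subtype.ext hwx ▸ hw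
  obtain ⟨O₁, hO₁, hO₁D⟩ := isOpen_induced_iff.1 (isOpen_connectedComponent : IsOpen D)
  obtain ⟨O₂, hO₂, hO₂D⟩ := isOpen_induced_iff.1 (isClosed_connectedComponent : IsClosed D).isOpen_compl
  have hvo : IsOpenMap v.left := v.left.isOpenMap
  have hsub : F ⊆ N := by
    intro y hy
    by_contra hyN
    have hcov : H.hom.base ⁻¹' {s} ⊆ v.left '' O₁ ∪ v.left '' O₂ := by
      intro w hw
      obtain ⟨x, rfl⟩ := v.left.surjective w
      have hx : x ∈ F := by show K.hom x = s; rw [← hap v]; exact hw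
      by_cases hxN : x ∈ N
      · exact Or.inl ⟨x, (show (⟨x, hx⟩ : F) ∈ Subtype.val ⁻¹' O₁ by rw [hO₁D]; exact (hD _).2 hxN), rfl⟩
      · exact Or.inr ⟨x, (show (⟨x, hx⟩ : F) ∈ Subtype.val ⁻¹' O₂ by rw [hO₂D]; exact fun h => hxN ((hD _).1 h)), rfl⟩
    obtain ⟨w, hw, ⟨x, hx, hxw⟩, ⟨x', hx', hxw'⟩⟩ := hH.isPreconnected _ _ (hvo O₁ hO₁) (hvo O₂ hO₂) hcov
      ⟨v.left (η[K].left s), show H.hom (v.left (η[K].left s)) = s by rw [hap v]; exact hηF, _,
        (show (⟨_, hηF⟩ : F) ∈ Subtype.val ⁻¹' O₁ by rw [hO₁D]; exact mem_connectedComponent), rfl⟩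
      ⟨v.left y, show H.hom (v.left y) = s by rw [hap v]; exact hy, _,
        (show (⟨y, hy⟩ : F) ∈ Subtype.val ⁻¹' O₂ by rw [hO₂D]; exact fun h => hyN ((hD _).1 h)), rfl⟩
    have hxF : x ∈ F := by show K.hom x = s; rw [← hap v, hxw]; exact hw
    have hxF' : x' ∈ F := by show K.hom x' = s; rw [← hap v, hxw']; exact hw
    have h1 : (⟨x, hxF⟩ : F) ∈ D := (Set.ext_iff.1 hO₁D ⟨x, hxF⟩).1 hx
    have h2 : (⟨x', hxF'⟩ : F) ∈ Dᶜ := (Set.ext_iff.1 hO₂D ⟨x', hxF'⟩).1 hx'
    exact h2 ((hD _).2 (hsat x x' ((hD _).1 h1) hxF (hxw.trans hxw'.symm)))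
  rw [show K.hom.base ⁻¹' {s} = N ∩ F from (Set.inter_eq_right.2 hsub).symm]
  exact GrpNeutral20.isConnected_inter_fibre K s

end Groth.Agent.PreimSub20
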